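import Groth.Agent.VBCurve.K704.Base
import Groth.Agent.S1521
import Groth.Agent.S1524
import Mathlib.CategoryTheory.Preadditive.Biproducts

/-!
# Maps of invertible modules on an integral scheme
-/

set_option autoImplicit false
universe u
open CategoryTheory CategoryTheory.Limits AlgebraicGeometry TopologicalSpace Opposite

namespace K704.InvHom

open Groth.Agent

variable {X : Scheme.{u}} [IsIntegral X]

/-- A nonzero map of invertible modules on an integral scheme is a monomorphism. -/
theorem mono_of_ne_zero {N L : X.Modules} (hN : PicF.IsInvertible N) (hL : PicF.IsInvertible L)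
    (φ : N ⟶ L) (hφ : φ ≠ 0) : Mono φ := by
  obtain ⟨V₀, hV₀, h⟩ := Fdesc.CurveMap.exists_open_bijective hN hL φ hφ
  have h1 := Fdesc.CurveMap.mono_abMap hN φ V₀ hV₀ h
  exact (VarietyA.EulerLES.toAbF X).mono_of_mono_map h1

/-- An invertible module on a nonempty scheme is nonzero. -/
theorem not_isZero {X : Scheme.{u}} [Nonempty X] {L : X.Modules} (hL : PicF.IsInvertible L) : ¬ IsZero L := by
  intro h
  obtain ⟨U, hxU, ⟨e⟩⟩ := hL (Classical.arbitrary X)
  have h1 : IsZero (L.restrict U.ι) := by
    have := h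
    rw [IsZero.iff_id_eq_zero] at this ⊢
    have h2 := congrArg (Scheme.Modules.restrictFunctor U.ι).map this
    rw [CategoryTheory.Functor.map_id, Functor.map_zero] at h2
    exact h2
  have h3 : IsZero (Coh.structureModule (↑U : Scheme.{u})) := h1.of_iso e.symm
  have h4 : (𝟙 (Coh.structureModule (↑U : Scheme.{u}))) = 0 := h3.eq_of_src _ _
  have h5 : (1 : Γ((↑U : Scheme.{u}), ⊤)) = 0 := by
    have := congrArg (fun φ : Coh.structureModule (↑U : Scheme.{u}) ⟶ Coh.structureModule (↑U : Scheme.{u}) =>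
      (Scheme.Modules.Hom.app φ ⊤ (1 : Γ((↑U : Scheme.{u}), ⊤)) : Γ((↑U : Scheme.{u}), ⊤))) h4
    exact this
  have : Nonempty ((↑U : Scheme.{u}) : Type u) := ⟨⟨_, hxU⟩⟩
  have : Nonempty (⊤ : (↑U : Scheme.{u}).Opens) := ⟨⟨⟨_, hxU⟩, trivial⟩⟩
  exact one_ne_zero h5

/-- Composites of nonzero maps of invertible modules on an integral scheme are nonzero. -/
theorem comp_ne_zero {A B C : X.Modules} (hB : PicF.IsInvertible B)
    (hC : PicF.IsInvertible C) (f : A ⟶ B) (g : B ⟶ C) (hf : f ≠ 0) (hg : g ≠ 0) : f ≫ g ≠ 0 := by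
  have := mono_of_ne_zero hB hC g hg
  intro h
  exact hf (by rw [← cancel_mono g, h, zero_comp])

theorem ne_zero_of_mono {X : Scheme.{u}} [Nonempty X] {N E : X.Modules} (hN : PicF.IsInvertible N) (j : N ⟶ E) [Mono j] : j ≠ 0 := by
  rintro rfl
  apply not_isZero hN
  rw [IsZero.iff_id_eq_zero, ← cancel_mono (0 : N ⟶ E), comp_zero, comp_zero]

section Curve

variable (k : Type u) [Field k] (X) [X.Over (Spec (CommRingCat.of k))] [IsProper (X ↘ (Spec (CommRingCat.of k)))]

include k in
/-- A nonzero endomorphism of an invertible module on a proper integral curve is an isomorphism. -/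
theorem isIso_endo (hdim : topologicalKrullDim X = 1) {L : X.Modules} (hL : PicF.IsInvertible L)
    (φ : L ⟶ L) (hφ : φ ≠ 0) : IsIso φ :=
  (S1521.result k X hdim L L hL hL φ hφ).2 rfl

include k in
/-- Nonzero maps in both directions between invertible modules on a proper integral curve are isomorphisms. -/
theorem isIso_of_ne_zero_of_ne_zero (hdim : topologicalKrullDim X = 1) {L M : X.Modules}
    (hL : PicF.IsInvertible L) (hM : PicF.IsInvertible M)
    (φ : L ⟶ M) (ψ : M ⟶ L) (hφ : φ ≠ 0) (hψ : ψ ≠ 0) : IsIso φ := by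
  have h1 := S1521.result k X hdim L M hL hM φ hφ
  have h2 := S1521.result k X hdim M L hM hL ψ hψ
  exact h1.2 (le_antisymm h1.1 h2.1)

end Curve

/-- Let `0 → L → E → M → 0` be exact and `j : N → E` a monomorphism with `N`, `L`, `E/N` invertible.
Either `N` and `L` are the same submodule or `N → M` is nonzero. -/
theorem sub_eq_or_ne_zero (S : ShortComplex X.Modules) (hS : S.ShortExact)
    (hL : PicF.IsInvertible S.X₁)
    {N : X.Modules} (hN : PicF.IsInvertible N) (j : N ⟶ S.X₂) [Mono j] (hq : PicF.IsInvertible (cokernel j)) :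
    (∃ φ : N ≅ S.X₁, φ.hom ≫ S.f = j) ∨ j ≫ S.g ≠ 0 := by
  by_cases h : j ≫ S.g = 0
  · left
    have hf : Mono S.f := hS.mono_f
    let l : N ⟶ S.X₁ := hS.exact.lift j h
    have hl : l ≫ S.f = j := hS.exact.lift_f j h
    have hj0 : j ≠ 0 := ne_zero_of_mono hN j
    have hl0 : l ≠ 0 := by
      intro h0
      apply hj0
      rw [← hl, h0, zero_comp]
    have hz : S.f ≫ cokernel.π j = 0 := by
      by_contra hne
      refine comp_ne_zero hL hq l _ hl0 hne ?_
      rw [← Category.assoc, hl, cokernel.condition]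
    let S' : ShortComplex X.Modules := ShortComplex.mk j (cokernel.π j) (cokernel.condition j)
    have hS' : S'.Exact := ShortComplex.exact_of_g_is_cokernel _ (cokernelIsCokernel j)
    have : Mono S'.f := inferInstanceAs (Mono j)
    let m : S.X₁ ⟶ N := hS'.lift S.f hz
    have hm : m ≫ j = S.f := hS'.lift_f S.f hz
    refine ⟨⟨l, m, ?_, ?_⟩, hl⟩
    · rw [← cancel_mono j, Category.assoc, hm, hl, Category.id_comp]
    · rw [← cancel_mono S.f, Category.assoc, hl, hm, Category.id_comp]
  · exact Or.inr h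

end K704.InvHom
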