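import Groth.Agent.VBCurve.K704.FineCoarse
import Groth.Agent.JacVar.K532.Fine
import Groth.Agent.JacVar.K533.JacSep
import Groth.Agent.S10958

/-!
# Line bundles of degree `d` on a curve with a rational point over a separably closed field
-/

set_option autoImplicit false
universe u
open CategoryTheory CategoryTheory.Limits AlgebraicGeometry MonObj

namespace K704.PicD

open Groth.Agent Groth.Agent.Grpsch.PicGrp Groth.Agent.Fga.RigGrp Groth.Agent.Fga.JacSum Groth.Agent.Fga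
open Groth.Agent.Fga.JacSurj Groth.Agent.Picfga.ChiDef Groth.Agent.Sga7.H732.Hedge Groth.Agent.Fdesc.LocGen
open Groth.Agent.Etcore.FibreDeg hiding toCl

variable {k : Type u} [Field k] {C : Scheme.{u}} (f : C ⟶ Spec (CommRingCat.of k))

theorem fdeg_eq [IsProper f] (T : Over (Spec (CommRingCat.of k))) (t : T.left) (c : Pic (PicF.XT f T)) :
    fdeg f T t c = chiAt f T t c - chiAt f T t 1 := by
  induction c using ind with | _ L hL => ?_
  rw [← JacFib.euler_eq_chiAt, ← JacFib.euler_structure_eq]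
  rfl

theorem ok_iff [IsProper f] (hdim : topologicalKrullDim C = 1) (d : ℤ)
    (T : Over (Spec (CommRingCat.of k))) (L : (PicF.XT f T).Modules) :
    (ModFun.PicDeg f d).ok T L ↔ ∃ hL : PicF.IsInvertible L, ∀ t : T.left, fdeg f T t (mk L hL) = d := by
  rw [K532.Fine.ok_iff f hdim]
  simp only [fdeg_eq, sub_eq_iff_eq_add']

theorem degCl_iff [IsProper f] (T : Over (Spec (CommRingCat.of k))) (c : Pic (PicF.XT f T)) :
    FGA.HasFibreDegreeZeroCl f T (toCl c) ↔ ∀ t, fdeg f T t c = 0 := by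
  rw [Sga7.H732.Abel.deg_iff]
  simp only [fdeg_eq, sub_eq_zero]

/-- The constant class. -/
noncomputable def tw (ν : Pic C) (T : Over (Spec (CommRingCat.of k))) : Pic (PicF.XT f T) :=
  pull (pullback.fst f T.hom) ν

theorem pull_tw (ν : Pic C) {T T' : Over (Spec (CommRingCat.of k))} (g : T' ⟶ T) :
    pull (PicF.XTmap f g) (tw f ν T) = tw f ν T' := by
  rw [tw, tw, ← pull_comp, FGA.XTmap_fst]

theorem fdeg_tw [IsProper f] [Smooth f] [GeometricallyIrreducible f] (ν : Pic C) {d : ℤ}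
    (hν : letI : C.Over (Spec (CommRingCat.of k)) := ⟨f⟩
      Etcore.DegZero.dg k C ν = d) (T : Over (Spec (CommRingCat.of k))) (t : T.left) :
    fdeg f T t (tw f ν T) = d := by
  let _ : C.Over (Spec (CommRingCat.of k)) := ⟨f⟩
  have hc : IsProper (C ↘ Spec (CommRingCat.of k)) := inferInstanceAs (IsProper f)
  have : CompactSpace C := QuasiCompact.compactSpace_of_compactSpace f
  have : QuasiSeparatedSpace C := quasiSeparatedSpace_of_quasiSeparated f
  rw [fdeg, tw, ← pull_comp, ← hν]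
  exact Etcore.DegZero.dg_pull k C _ _ _ _ (isPullback_fibre f T t) ν

section

variable (σ : Spec (CommRingCat.of k) ⟶ C) (hσ : σ ≫ f = 𝟙 (Spec (CommRingCat.of k)))

theorem fdeg_norm [IsProper f] (T : Over (Spec (CommRingCat.of k))) (t : T.left) (c : Pic (PicF.XT f T)) :
    fdeg f T t (norm f σ hσ T c) = fdeg f T t c := by
  rw [fdeg_eq, fdeg_eq, K532.Fine.chiAt_norm]

end

section laws

variable [IsProper f] (hdim : topologicalKrullDim C = 1)
  (σ : Spec (CommRingCat.of k) ⟶ C) (hσ : σ ≫ f = 𝟙 (Spec (CommRingCat.of k))) (d : ℤ)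

include hdim σ hσ in
theorem laws : FineCoarse.Laws (ModFun.PicDeg f d) where
  ok_pull g x hx := K532.Fine.ok_pull hdim g hx
  refl x hx := by
    obtain ⟨hL, -⟩ := (ok_iff f hdim d _ x).1 hx
    exact (K532.Fine.r_iff f σ hσ x x hL hL).2 rfl
  symm x y hx hy h := by
    obtain ⟨hL, -⟩ := (ok_iff f hdim d _ x).1 hx
    obtain ⟨hM, -⟩ := (ok_iff f hdim d _ y).1 hy
    exact (K532.Fine.r_iff f σ hσ y x hM hL).2 ((K532.Fine.r_iff f σ hσ x y hL hM).1 h).symm
  trans x y z hx hy hz h h' := by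
    obtain ⟨hL, -⟩ := (ok_iff f hdim d _ x).1 hx
    obtain ⟨hM, -⟩ := (ok_iff f hdim d _ y).1 hy
    obtain ⟨hN, -⟩ := (ok_iff f hdim d _ z).1 hz
    exact (K532.Fine.r_iff f σ hσ x z hL hN).2 (((K532.Fine.r_iff f σ hσ x y hL hM).1 h).trans
      ((K532.Fine.r_iff f σ hσ y z hM hN).1 h'))
  pull_r {T T'} g x y hx hy h := by
    obtain ⟨hL, -⟩ := (ok_iff f hdim d _ x).1 hx
    obtain ⟨hM, -⟩ := (ok_iff f hdim d _ y).1 hy
    refine (K532.Fine.r_iff f σ hσ _ _ (isInvertible_pullback _ hL) (isInvertible_pullback _ hM)).2 ?_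
    have h1 := congrArg (pull (PicF.XTmap f g)) ((K532.Fine.r_iff f σ hσ x y hL hM).1 h)
    rw [pull_norm, pull_norm] at h1
    exact h1
  pull_comp {T T' T''} g g' x hx := by
    obtain ⟨hL, -⟩ := (ok_iff f hdim d _ x).1 hx
    refine (K532.Fine.r_iff f σ hσ _ _ (isInvertible_pullback _ hL)
      (isInvertible_pullback _ (isInvertible_pullback _ hL))).2 ?_
    have h1 : pull (PicF.XTmap f (g' ≫ g)) (mk x hL) = pull (PicF.XTmap f g') (pull (PicF.XTmap f g) (mk x hL)) := by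
      rw [XTmap_comp, pull_comp]
    exact congrArg (norm f σ hσ T'') h1

variable [Smooth f] [GeometricallyIrreducible f]
variable {J₀ : Over (Spec (CommRingCat.of k))} [GrpObj J₀]
  {ξ₀ : Pic (PicF.XT f J₀)} (h₀ : IsJac f σ hσ J₀ ξ₀) (ν : Pic C) 
  (hν : letI : C.Over (Spec (CommRingCat.of k)) := ⟨f⟩
      Etcore.DegZero.dg k C ν = d)

include hdim h₀ hν

theorem exists_univ : ∃ ξ : (ModFun.PicDeg f d).Fam J₀,
    ModFun.IsUnivFamily ⊤ (ModFun.PicDeg f d) J₀ ξ := by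
  obtain ⟨L, hL, hLξ⟩ := exists_mk (ξ₀ * tw f ν J₀)
  have hξ0 : ∀ t, fdeg f J₀ t ξ₀ = 0 := (degCl_iff f J₀ ξ₀).1 h₀.deg
  have hok : (ModFun.PicDeg f d).ok J₀ L := (ok_iff f hdim d J₀ L).2 ⟨hL, fun t => by
    rw [← hLξ, fdeg_mul f hdim, hξ0, fdeg_tw f ν hν, zero_add]⟩
  refine ⟨L, hok, fun T x _ hx => ?_⟩
  obtain ⟨hx', hxd⟩ := (ok_iff f hdim d T x).1 hx
  have key : ∀ g : T ⟶ J₀, (ModFun.PicDeg f d).r T ((ModFun.PicDeg f d).pull g L) x ↔
      pull (PicF.XTmap f g) ξ₀ = norm f σ hσ T (mk x hx' * (tw f ν T)⁻¹) := by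
    intro g
    refine (K532.Fine.r_iff f σ hσ _ _ (isInvertible_pullback _ hL) hx').trans ?_
    have h1 : mk ((Scheme.Modules.pullback (PicF.XTmap f g)).obj L) (isInvertible_pullback _ hL) =
        pull (PicF.XTmap f g) ξ₀ * tw f ν T := by
      rw [← pull_mk _ hL, ← hLξ, map_mul, pull_tw]
    rw [h1, map_mul, map_mul, map_inv, norm_of_mem _ _ _ (pull_mem g h₀.mem)]
    exact eq_mul_inv_iff_mul_eq.symm
  have hd : ∀ t, fdeg f T t (norm f σ hσ T (mk x hx' * (tw f ν T)⁻¹)) = 0 := fun t => by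
    rw [fdeg_norm, fdeg_mul f hdim, fdeg_inv f hdim, hxd, fdeg_tw f ν hν, add_neg_cancel]
  obtain ⟨g, hg, hu⟩ := h₀.univ T _ (norm_mem f σ hσ T _) ((degCl_iff f T _).2 hd)
  exact ⟨g, (key g).2 hg, fun g' hg' => hu g' ((key g').1 hg')⟩

end laws

end K704.PicD
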