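import Groth.Prelude.Def_Curv2
import Groth.Agent.CurvesC.CurveCoh
import Groth.Agent.VarietyA.CurveFin
import Groth.Agent.VarietyA.TwistExist
import Groth.Agent.PerfA.CohSerre

/-!
# Cohomology of modules on a proper integral curve over an algebraically closed field: dimension counts
-/

set_option autoImplicit false
universe u
open CategoryTheory CategoryTheory.Limits AlgebraicGeometry TopologicalSpace Opposite

namespace K704.Base

open Groth.Agent

/-- A locally free module of rank `r` is finite locally free. -/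
theorem isFinLocFree_of_rank {X : Scheme.{u}} {r : ℕ} {E : X.Modules} (hE : FlatMod.IsFinLocFreeOfRank r E) :
    FlatMod.IsFinLocFree E := by
  intro x
  obtain ⟨U, hx, h⟩ := hE x
  exact ⟨U, r, hx, h⟩

theorem isCoh_of_rank {X : Scheme.{u}} {r : ℕ} {E : X.Modules} (hE : FlatMod.IsFinLocFreeOfRank r E) :
    Coh.IsCoh E := PerfA.CohSerre.isCoh_of_isFinLocFree (isFinLocFree_of_rank hE)

section

variable (k : Type u) [Field k] (X : Scheme.{u}) [X.Over (Spec (CommRingCat.of k))]

/-- `H^0` is left exact. -/
theorem h0_le_of_mono {M N : X.Modules} (i : M ⟶ N) [Mono i] [Module.Finite k (Coh.HH X N 0)] :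
    Module.finrank k (Coh.HH X M 0) ≤ Module.finrank k (Coh.HH X N 0) :=
  LinearMap.finrank_le_finrank_of_injective (f := VarietyA.HLin.hmapₗ k i 0)
    (VarietyA.TwistDim.hmap_zero_injective i)

variable [IsProper (X ↘ (Spec (CommRingCat.of k)))]

theorem finite_HH {M : X.Modules} (hM : Coh.IsCoh M) (n : ℕ) : Module.Finite k (Coh.HH X M n) :=
  S0002.result k X M hM n

variable [IsAlgClosed k] [IsIntegral X]

theorem euler_structure (hdim : topologicalKrullDim X = 1) :
    Curv2.euler k X (Coh.structureModule X) = 1 - (Curv2.genus k X : ℤ) := by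
  rw [CurvesC.CurveCoh.euler_eq k X hdim, VarietyA.CurveFin.finrank_h0_structure k X]
  rfl

/-- `deg E = h⁰(E) - h¹(E) - r (1 - g)`. -/
theorem deg_eq (hdim : topologicalKrullDim X = 1) (M : X.Modules) (r : ℕ) :
    Curv2.deg k X M r = (Module.finrank k (Coh.HH X M 0) : ℤ) - (Module.finrank k (Coh.HH X M 1) : ℤ) -
      r * (1 - (Curv2.genus k X : ℤ)) := by
  unfold Curv2.deg
  rw [euler_structure k X hdim, CurvesC.CurveCoh.euler_eq k X hdim]

theorem deg_eq_one (hdim : topologicalKrullDim X = 1) (M : X.Modules) :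
    Curv2.deg k X M 1 = (Module.finrank k (Coh.HH X M 0) : ℤ) - (Module.finrank k (Coh.HH X M 1) : ℤ) -
      1 + (Curv2.genus k X : ℤ) := by
  rw [deg_eq k X hdim]
  push_cast
  ring

/-- Invertible modules of every degree `≥ 0` starting from the structure sheaf. -/
theorem exists_deg_nat (hdim : topologicalKrullDim X = 1) (n : ℕ) :
    ∃ L : X.Modules, PicF.IsInvertible L ∧ Curv2.deg k X L 1 = n := by
  induction n with
  | zero =>
    refine ⟨Coh.structureModule X, Fdesc.LocGen.isInvertible_structureModule, ?_⟩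
    rw [deg_eq_one k X hdim, VarietyA.CurveFin.finrank_h0_structure k X]
    unfold Curv2.genus
    simp
  | succ n ih =>
    obtain ⟨L, hL, hd⟩ := ih
    have h1 := VarietyA.CurveFin.finite_HH k X hL 1
    obtain ⟨L', hL', h, -⟩ := VarietyA.TwistExist.exists_twistUp k X hdim L hL
      (fun L' hL' => VarietyA.CurveFin.finite_HH k X hL' 0)
    refine ⟨L', hL', ?_⟩
    rw [deg_eq_one k X hdim] at hd ⊢
    push_cast
    omega

end

end K704.Base
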