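import Groth.Prelude.Def_ModFun2
import Mathlib.AlgebraicGeometry.Cover.Open
import Mathlib.AlgebraicGeometry.Gluing

/-!
# Fine moduli schemes are coarse moduli schemes, on affine test schemes
-/

set_option autoImplicit false
universe v u
open CategoryTheory CategoryTheory.Limits AlgebraicGeometry Opposite

namespace K704.FineCoarse

variable {S : Scheme.{u}}

/-- A transformation of functors of points on affine `S`-schemes comes from a unique morphism. -/
theorem exists_unique_hom {J N : Over S} (F : ∀ T : Over S, IsAffine T.left → (T ⟶ J) → (T ⟶ N))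
    (hF : ∀ (T T' : Over S) (hT : IsAffine T.left) (hT' : IsAffine T'.left) (b : T' ⟶ T) (a : T ⟶ J),
      F T' hT' (b ≫ a) = b ≫ F T hT a) :
    ∃! f : J ⟶ N, ∀ (T : Over S) (hT : IsAffine T.left) (a : T ⟶ J), F T hT a = a ≫ f := by
  let 𝒰 := J.left.affineCover
  let U : 𝒰.I₀ → Over S := fun i => Over.mk (𝒰.f i ≫ J.hom)
  let ι : ∀ i, U i ⟶ J := fun i => Over.homMk (𝒰.f i) rfl
  have hU : ∀ i, IsAffine (U i).left := fun i => inferInstanceAs (IsAffine (𝒰.X i))
  let φ : ∀ i, 𝒰.X i ⟶ N.left := fun i => (F (U i) (hU i) (ι i)).left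
  have hφ : ∀ i, φ i ≫ N.hom = 𝒰.f i ≫ J.hom := fun i => Over.w (F (U i) (hU i) (ι i))
  -- values on affine schemes mapping to members of the cover
  have key : ∀ (i : 𝒰.I₀) (W : Scheme.{u}) (hW : IsAffine W) (w : W ⟶ 𝒰.X i),
      w ≫ φ i = (F (Over.mk ((w ≫ 𝒰.f i) ≫ J.hom)) hW (Over.homMk (w ≫ 𝒰.f i) rfl)).left := by
    intro i W hW w
    have h1 : (w ≫ 𝒰.f i) ≫ J.hom = w ≫ (U i).hom := Category.assoc _ _ _
    let b : Over.mk ((w ≫ 𝒰.f i) ≫ J.hom) ⟶ U i := Over.homMk w h1.symm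
    have h2 := hF (U i) (Over.mk ((w ≫ 𝒰.f i) ≫ J.hom)) (hU i) hW b (ι i)
    have h3 : b ≫ ι i = Over.homMk (w ≫ 𝒰.f i) rfl := rfl
    rw [← h3, h2]
    rfl
  have key2 : ∀ (W : Scheme.{u}) (hW : IsAffine W) (a a' : W ⟶ J.left) (h : a = a'),
      (F (Over.mk (a ≫ J.hom)) hW (Over.homMk a rfl)).left = (F (Over.mk (a' ≫ J.hom)) hW (Over.homMk a' rfl)).left := by
    rintro W hW a _ rfl
    rfl
  have glue : ∀ i j : 𝒰.I₀, pullback.fst (𝒰.f i) (𝒰.f j) ≫ φ i = pullback.snd (𝒰.f i) (𝒰.f j) ≫ φ j := by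
    intro i j
    apply (pullback (𝒰.f i) (𝒰.f j)).affineCover.hom_ext
    intro l
    rw [← Category.assoc, ← Category.assoc, key i _ inferInstance, key j _ inferInstance]
    apply key2
    rw [Category.assoc, Category.assoc, pullback.condition]
  let f₀ : J.left ⟶ N.left := 𝒰.glueMorphisms φ glue
  have hf₀ : ∀ i, 𝒰.f i ≫ f₀ = φ i := fun i => 𝒰.ι_glueMorphisms φ glue i
  have hf : f₀ ≫ N.hom = J.hom := by
    apply 𝒰.hom_ext
    intro i
    rw [← Category.assoc, hf₀, hφ]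
  let f : J ⟶ N := Over.homMk f₀ hf
  refine ⟨f, fun T hT a => ?_, fun g hg => ?_⟩
  · -- locally on `T`
    apply Over.OverMorphism.ext
    change (F T hT a).left = a.left ≫ f₀
    refine Scheme.Cover.hom_ext (𝒰.pullback₁ a.left) _ _ fun (i : 𝒰.I₀) => ?_
    change pullback.fst a.left (𝒰.f i) ≫ (F T hT a).left = pullback.fst a.left (𝒰.f i) ≫ a.left ≫ f₀
    apply (pullback a.left (𝒰.f i)).affineCover.hom_ext
    intro l
    let W := (pullback a.left (𝒰.f i)).affineCover.X l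
    let w : W ⟶ pullback a.left (𝒰.f i) := (pullback a.left (𝒰.f i)).affineCover.f l
    have hW : IsAffine W := inferInstance
    let v : W ⟶ T.left := w ≫ pullback.fst a.left (𝒰.f i)
    let u' : W ⟶ 𝒰.X i := w ≫ pullback.snd a.left (𝒰.f i)
    have huv : v ≫ a.left = u' ≫ 𝒰.f i := by
      simp only [v, u', Category.assoc, pullback.condition]
    have h1 : (v ≫ a.left) ≫ J.hom = v ≫ T.hom := by rw [Category.assoc, Over.w a]
    let b : Over.mk ((v ≫ a.left) ≫ J.hom) ⟶ T := Over.homMk v h1.symm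
    have h2 := hF T _ hT hW b a
    have h3 : b ≫ a = Over.homMk (v ≫ a.left) rfl := rfl
    rw [h3] at h2
    have h4 : v ≫ (F T hT a).left = (F (Over.mk ((v ≫ a.left) ≫ J.hom)) hW (Over.homMk (v ≫ a.left) rfl)).left := by
      rw [h2]; rfl
    have h5 := key i W hW u'
    rw [← key2 W hW _ _ huv, ← h4, ← hf₀ i] at h5
    calc w ≫ pullback.fst a.left (𝒰.f i) ≫ (F T hT a).left = v ≫ (F T hT a).left := (Category.assoc _ _ _).symm
      _ = u' ≫ 𝒰.f i ≫ f₀ := h5.symm
      _ = (u' ≫ 𝒰.f i) ≫ f₀ := (Category.assoc _ _ _).symm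
      _ = (v ≫ a.left) ≫ f₀ := by rw [huv]
      _ = w ≫ pullback.fst a.left (𝒰.f i) ≫ a.left ≫ f₀ := by simp only [v, Category.assoc]
  · apply Over.OverMorphism.ext
    apply 𝒰.hom_ext
    intro i
    change 𝒰.f i ≫ g.left = 𝒰.f i ≫ f₀
    rw [hf₀]
    exact (congrArg CommaMorphism.left (hg (U i) (hU i) (ι i))).symm

open ModFun

/-- The laws making a moduli problem a functor up to identification. -/
structure Laws (F : Problem.{v} S) : Prop where
  ok_pull : ∀ {T T' : Over S} (g : T' ⟶ T) (x : F.Fam T), F.ok T x → F.ok T' (F.pull g x)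
  refl : ∀ {T : Over S} (x : F.Fam T), F.ok T x → F.r T x x
  symm : ∀ {T : Over S} (x y : F.Fam T), F.ok T x → F.ok T y → F.r T x y → F.r T y x
  trans : ∀ {T : Over S} (x y z : F.Fam T), F.ok T x → F.ok T y → F.ok T z → F.r T x y → F.r T y z → F.r T x z
  pull_r : ∀ {T T' : Over S} (g : T' ⟶ T) (x y : F.Fam T), F.ok T x → F.ok T y → F.r T x y →
    F.r T' (F.pull g x) (F.pull g y)
  pull_comp : ∀ {T T' T'' : Over S} (g : T' ⟶ T) (g' : T'' ⟶ T') (x : F.Fam T), F.ok T x →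
    F.r T'' (F.pull (g' ≫ g) x) (F.pull g' (F.pull g x))

variable {F : Problem.{v} S} (L : Laws F) {J : Over S} {ξ : F.Fam J}
  (h : IsUnivFamily (fun T => IsAffine T.left) F J ξ)

/-- The classifying morphism. -/
noncomputable def cl : F.Hom (fun T => IsAffine T.left) J where
  app T x hT hx := (h.2 T x hT hx).choose
  natural {T T'} g x hT hT' hx hx' := by
    have h1 := (h.2 T x hT hx).choose_spec.1
    have h2 := (h.2 T' (F.pull g x) hT' hx').choose_spec.1
    refine (h.2 T' (F.pull g x) hT' hx').unique h2 ?_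
    have ho := L.ok_pull (h.2 T x hT hx).choose ξ h.1
    exact L.trans _ _ _ (L.ok_pull _ ξ h.1) (L.ok_pull g _ ho) hx' (L.pull_comp _ _ ξ h.1)
      (L.pull_r g _ _ ho hx h1)
  resp {T} x y hT hx hy hr := by
    have h1 := (h.2 T x hT hx).choose_spec.1
    have h2 := (h.2 T y hT hy).choose_spec.1
    refine (h.2 T y hT hy).unique ?_ h2
    exact L.trans _ _ _ (L.ok_pull _ ξ h.1) hx hy h1 hr

theorem cl_spec {T : Over S} (x : F.Fam T) (hT : IsAffine T.left) (hx : F.ok T x) :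
    F.r T (F.pull ((cl L h).app T x hT hx) ξ) x := (h.2 T x hT hx).choose_spec.1

theorem cl_unique {T : Over S} (x : F.Fam T) (hT : IsAffine T.left) (hx : F.ok T x) (g : T ⟶ J)
    (hg : F.r T (F.pull g ξ) x) : (cl L h).app T x hT hx = g :=
  (h.2 T x hT hx).unique (cl_spec L h x hT hx) hg

theorem isBestApprox : IsBestApprox (fun T => IsAffine T.left) F J (cl L h) := by
  intro N ψ
  obtain ⟨f, hf, hu⟩ := exists_unique_hom (J := J) (N := N)
    (fun T hT a => ψ.app T (F.pull a ξ) hT (L.ok_pull a ξ h.1)) (fun T T' hT hT' b a => by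
      rw [← ψ.natural b (F.pull a ξ) hT hT' (L.ok_pull a ξ h.1) (L.ok_pull b _ (L.ok_pull a ξ h.1))]
      exact ψ.resp _ _ hT' _ _ (L.pull_comp _ _ ξ h.1))
  refine ⟨f, fun T x hT hx => ?_, fun g hg => hu g fun T hT a => ?_⟩
  · rw [← hf T hT]
    exact (ψ.resp _ _ hT _ _ (cl_spec L h x hT hx)).symm
  · rw [hg T (F.pull a ξ) hT (L.ok_pull a ξ h.1),
      cl_unique L h _ hT (L.ok_pull a ξ h.1) a (L.refl _ (L.ok_pull a ξ h.1))]

/-- A fine moduli scheme is a coarse moduli scheme (on affine test schemes). -/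
theorem isCoarseModuli : IsCoarseModuli (fun T => IsAffine T.left) F J (cl L h) := by
  refine ⟨fun Ω _ _ t => inferInstanceAs (IsAffine (Spec (CommRingCat.of Ω))), isBestApprox L h, fun Ω _ _ t hP => ⟨fun g => ?_, fun x y hx hy hxy => ?_⟩⟩
  · exact ⟨F.pull g ξ, L.ok_pull g ξ h.1, cl_unique L h _ hP _ g (L.refl _ (L.ok_pull g ξ h.1))⟩
  · have h1 := cl_spec L h x hP hx
    have h2 := cl_spec L h y hP hy
    rw [hxy] at h1
    have ho := L.ok_pull ((cl L h).app _ y hP hy) ξ h.1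
    exact L.trans _ _ _ hx ho hy (L.symm _ _ ho hx h1) h2

end K704.FineCoarse
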