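import Groth.Agent.VBCurve.K706.HomFin
import Groth.Agent.VBCurve.K704.InvHom
import Groth.Agent.VBCurve.K707.Semi
import Groth.Agent.CurvesB.Pairing

/-!
# `H^0` as maps from the structure module, linearly
-/

set_option autoImplicit false
universe u
open CategoryTheory CategoryTheory.Limits AlgebraicGeometry TopologicalSpace Opposite

namespace K704.HomK

open Groth.Agent

section

variable (k : Type u) [Field k] {X : Scheme.{u}} [X.Over (Spec (CommRingCat.of k))]

theorem secLin_surjective (M : X.Modules) :
    letI := CurvesB.HZero.moduleΓ k M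
    Function.Surjective (K706.HomFin.secLin k M) := by
  intro m
  exact ⟨CurvesB.Pairing.secHom M m, CurvesB.Pairing.homSec_secHom M m⟩

/-- `Hom(O, M) ≃ H^0(M)`. -/
noncomputable def homEquiv (M : X.Modules) : (Coh.structureModule X ⟶ M) ≃ₗ[k] Coh.HH X M 0 :=
  letI := CurvesB.HZero.moduleΓ k M
  (LinearEquiv.ofBijective (K706.HomFin.secLin k M)
    ⟨K706.HomFin.secLin_injective k M, secLin_surjective k M⟩).trans (CurvesB.HZero.equivLin k M).symm

theorem finrank_hom (M : X.Modules) :
    Module.finrank k (Coh.structureModule X ⟶ M) = Module.finrank k (Coh.HH X M 0) :=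
  (homEquiv k M).finrank_eq

/-- Postcomposition, as a `k`-linear map. -/
noncomputable abbrev post {M N : X.Modules} (f : M ⟶ N) :
    (Coh.structureModule X ⟶ M) →ₗ[k] (Coh.structureModule X ⟶ N) := Linear.rightComp k (Coh.structureModule X) f

theorem post_injective {M N : X.Modules} (f : M ⟶ N) [Mono f] : Function.Injective (post k f) := by
  intro a b h
  exact (cancel_mono f).mp h

theorem finrank_range_post {M N : X.Modules} (f : M ⟶ N) [Mono f] :
    Module.finrank k (LinearMap.range (post k f)) = Module.finrank k (Coh.HH X M 0) := by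
  rw [LinearMap.finrank_range_of_inj (post_injective k f), finrank_hom]

theorem mem_range_post_iff {S : ShortComplex X.Modules} (hS : S.ShortExact) (s : Coh.structureModule X ⟶ S.X₂) :
    s ∈ LinearMap.range (post k S.f) ↔ s ≫ S.g = 0 := by
  have := hS.mono_f
  constructor
  · rintro ⟨t, rfl⟩
    change (t ≫ S.f) ≫ S.g = 0
    rw [Category.assoc, S.zero, comp_zero]
  · intro h
    exact ⟨hS.exact.lift s h, hS.exact.lift_f s h⟩

/-- Left exactness of `H^0`: `h⁰(X₂) ≤ h⁰(X₁) + h⁰(X₃)`. -/
theorem finrank_le {S : ShortComplex X.Modules} (hS : S.ShortExact)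
    [Module.Finite k (Coh.HH X S.X₂ 0)] [Module.Finite k (Coh.HH X S.X₃ 0)] :
    Module.finrank k (Coh.HH X S.X₂ 0) ≤ Module.finrank k (Coh.HH X S.X₁ 0) + Module.finrank k (Coh.HH X S.X₃ 0) := by
  have := hS.mono_f
  have f2 : Module.Finite k (Coh.structureModule X ⟶ S.X₂) := Module.Finite.equiv (homEquiv k S.X₂).symm
  have f3 : Module.Finite k (Coh.structureModule X ⟶ S.X₃) := Module.Finite.equiv (homEquiv k S.X₃).symm
  have h1 := LinearMap.finrank_range_add_finrank_ker (post k S.g)
  have h2 : LinearMap.ker (post k S.g) = LinearMap.range (post k S.f) := by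
    ext s
    rw [mem_range_post_iff k hS]
    rfl
  rw [h2, finrank_range_post k S.f, finrank_hom] at h1
  have h3 := Submodule.finrank_le (LinearMap.range (post k S.g))
  rw [finrank_hom] at h3
  omega

end

end K704.HomK
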