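import Groth.Agent.VBCurve.K704.Eval

/-!
# Saturations of maps from invertible modules to bundles of rank two; independent sections
-/

set_option autoImplicit false
set_option linter.unusedSectionVars false
universe u
open CategoryTheory CategoryTheory.Limits AlgebraicGeometry TopologicalSpace Opposite

namespace K704.Sat

open Groth.Agent Groth.Agent.Dix.PointIdeal K704.Pt K704.HomK K704.Eval
open Groth.Agent.VarietyA.DegRank
open MonoidalCategory K707.Base K707.Deg K707.Slope K707.Semi
open scoped Groth.Agent.Dcoh.MonCat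

section

theorem isInvertible_of_rank {X : Scheme.{u}} {M : X.Modules} (h : FlatMod.IsFinLocFreeOfRank 1 M) : PicF.IsInvertible M :=
  Ega2.QCohLocal.isFinLocFreeOfRank_one_iff.1 h

theorem rank_of_isInvertible {X : Scheme.{u}} {M : X.Modules} (h : PicF.IsInvertible M) : FlatMod.IsFinLocFreeOfRank 1 M :=
  Ega2.QCohLocal.isFinLocFreeOfRank_one_iff.2 h

theorem coh_of_isInvertible {X : Scheme.{u}} {M : X.Modules} (h : PicF.IsInvertible M) : Coh.IsCoh M :=
  K707.Base.isCoh_of_rank (rank_of_isInvertible h)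

variable {k : Type u} [Field k] {X : Scheme.{u}} [X.Over (Spec (CommRingCat.of k))]
  [IsIntegral X] [IsProper (X ↘ Spec (CommRingCat.of k))] 

/-- A nonzero map from an invertible module to a bundle is a monomorphism. -/
theorem mono_of_ne_zero (C : Crv k X) {L E : X.Modules} (hL : PicF.IsInvertible L) (hE : FlatMod.IsFinLocFree E)
    (f : L ⟶ E) (hf : f ≠ 0) : Mono f := by
  have hcL := coh_of_isInvertible hL
  obtain ⟨I, p, i, hp, hi, hpi, hIv, hpos, e1, -, -, -⟩ := exists_factor_pos C f hf hcL hE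
  rw [rk_of_rank (rank_of_isInvertible hL)] at e1
  have h1 : rk (kernel f) = 0 := by omega
  exact Preadditive.mono_of_isZero_kernel _ (isZero_of_rk_eq_zero C
    (vb_kernel C f (isFinLocFree_of_rank (rank_of_isInvertible hL)) (coh_of_vb hE)) h1)

/-- The saturation of a rank one submodule of a bundle of rank two. -/
theorem exists_sat (C : Crv k X) {L E : X.Modules} (hL : PicF.IsInvertible L) (hE : FlatMod.IsFinLocFreeOfRank 2 E)
    (f : L ⟶ E) (hf : f ≠ 0) : ∃ (N Q : X.Modules) (j : N ⟶ E) (q : E ⟶ Q) (w : j ≫ q = 0) (a : L ⟶ N),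
      (ShortComplex.mk j q w).ShortExact ∧ PicF.IsInvertible N ∧ PicF.IsInvertible Q ∧ a ≫ j = f := by
  have := mono_of_ne_zero C hL (isFinLocFree_of_rank hE) f hf
  obtain ⟨N, Q, a, j, q, w, ha, haj, hS, hN, hQ, e1, -, e2, -⟩ :=
    exists_saturation C f (coh_of_isInvertible hL) (K707.Base.isCoh_of_rank hE)
  rw [rk_of_rank (rank_of_isInvertible hL)] at e1
  rw [rk_of_rank hE] at e2
  have hj : Mono j := hS.mono_f
  have hNv := vb_of_mono C j hN (isFinLocFree_of_rank hE)
  have h1 := isFinLocFreeOfRank_rk hNv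
  have h2 := isFinLocFreeOfRank_rk hQ
  rw [e1] at h1
  have h3 : rk Q = 1 := by omega
  rw [h3] at h2
  exact ⟨N, Q, j, q, w, a, hS, isInvertible_of_rank h1, isInvertible_of_rank h2, haj⟩

/-- Two sections, one in a saturated line subbundle and one outside of it, are generically independent. -/
theorem mono_desc (C : Crv k X) {E N Q : X.Modules} (j : N ⟶ E) (q : E ⟶ Q) (w : j ≫ q = 0)
    (hS : (ShortComplex.mk j q w).ShortExact) (hQ : PicF.IsInvertible Q)
    (hE : FlatMod.IsFinLocFree E) (s t : Sec E) (hs : s ≠ 0) (hsj : s ∈ LinearMap.range (post k j))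
    (ht : t ∉ LinearMap.range (post k j)) : Mono (biprod.desc s t) := by
  have ht0 : t ≫ q ≠ 0 := fun h => ht ((mem_range_post_iff k hS t).2 h)
  have hsq : s ≫ q = 0 := (mem_range_post_iff k hS s).1 hsj
  have h1 : Mono (t ≫ q) := InvHom.mono_of_ne_zero Fdesc.LocGen.isInvertible_structureModule hQ _ ht0
  have h2 : Mono s := mono_of_ne_zero C Fdesc.LocGen.isInvertible_structureModule hE s hs
  refine Preadditive.mono_of_cancel_zero _ fun {Z} g hg => ?_
  have hg' : g = biprod.lift (g ≫ biprod.fst) (g ≫ biprod.snd) := by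
    apply biprod.hom_ext <;> simp
  rw [hg', biprod.lift_desc] at hg
  have h3 : (g ≫ biprod.snd) ≫ (t ≫ q) = 0 := by
    have := congrArg (· ≫ q) hg
    simp only [Preadditive.add_comp, Category.assoc, hsq, comp_zero, zero_comp, zero_add] at this
    simpa using this
  have h4 : g ≫ biprod.snd = 0 := (cancel_mono (t ≫ q)).1 (by rw [h3, zero_comp])
  rw [h4, zero_comp, add_zero] at hg
  have h5 : g ≫ biprod.fst = 0 := (cancel_mono s).1 (by rw [hg, zero_comp])
  rw [hg', h4, h5]
  apply biprod.hom_ext <;> simp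

/-- A line subbundle sharing a nonzero section with a saturated one is contained in it. -/
theorem range_le (C : Crv k X) {E N Q M : X.Modules} (j : N ⟶ E) (q : E ⟶ Q) (w : j ≫ q = 0)
    (hS : (ShortComplex.mk j q w).ShortExact) (hQ : PicF.IsInvertible Q) (hM : PicF.IsInvertible M)
    (i : M ⟶ E) (s : Sec E) (hs : s ≠ 0)
    (hsj : s ∈ LinearMap.range (post k j)) (hsi : s ∈ LinearMap.range (post k i)) :
    LinearMap.range (post k i) ≤ LinearMap.range (post k j) := by
  have h0 : i ≫ q = 0 := by
    by_contra hne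
    obtain ⟨t, rfl⟩ := hsi
    have h1 : (t ≫ i) ≫ q = 0 := (mem_range_post_iff k hS _).1 hsj
    have ht : t ≠ 0 := by
      rintro rfl
      exact hs (map_zero _)
    exact InvHom.comp_ne_zero hM hQ t (i ≫ q) ht hne (by rw [← Category.assoc]; exact h1)
  rintro _ ⟨t, rfl⟩
  refine (mem_range_post_iff k hS _).2 ?_
  change (t ≫ i) ≫ q = 0
  rw [Category.assoc, h0, comp_zero]

end

section

variable (k : Type u) [Field k] {X : Scheme.{u}} [X.Over (Spec (CommRingCat.of k))]

theorem finrank_inf_le {V : Type*} [AddCommGroup V] [Module k V] [Module.Finite k V] (W K : Submodule k V)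
    (s t : V) (hs : s ∈ W) (ht : t ∈ W) (h : ∀ a b : k, a • s + b • t ∈ K → a = 0 ∧ b = 0) :
    Module.finrank k (W ⊓ K : Submodule k V) + 2 ≤ Module.finrank k W := by
  let U : Submodule k V := Submodule.span k (Set.range ![s, t])
  have hli : LinearIndependent k ![s, t] := by
    rw [LinearIndependent.pair_iff]
    intro a b hab
    exact h a b (by rw [hab]; exact K.zero_mem)
  have hU : Module.finrank k U = 2 := by
    rw [finrank_span_eq_card hli]
    simp
  have hUW : U ≤ W := by
    rw [Submodule.span_le]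
    rintro _ ⟨i, rfl⟩
    fin_cases i
    · exact hs
    · exact ht
  have hUK : U ⊓ (W ⊓ K) = ⊥ := by
    rw [eq_bot_iff]
    rintro v ⟨hvU, -, hvK⟩
    have hv : ∃ a b : k, a • s + b • t = v := by
      have h1 := hvU
      change v ∈ Submodule.span k (Set.range ![s, t]) at h1
      rw [Matrix.range_cons, Matrix.range_cons, Matrix.range_empty, Set.union_empty, Set.singleton_union,
        Submodule.mem_span_pair] at h1
      exact h1
    obtain ⟨a, b, rfl⟩ := hv
    obtain ⟨rfl, rfl⟩ := h a b hvK
    simp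
  have h1 := Submodule.finrank_sup_add_finrank_inf_eq U (W ⊓ K)
  rw [hUK, finrank_bot, hU] at h1
  have h2 : Module.finrank k (U ⊔ (W ⊓ K) : Submodule k V) ≤ Module.finrank k W :=
    Submodule.finrank_mono (sup_le hUW inf_le_left)
  omega

/-- `H⁰`-semistability of a module (of rank two). -/
def HSS (E : X.Modules) : Prop :=
  ∀ (M : X.Modules) (i : M ⟶ E), Mono i → PicF.IsInvertible M →
    2 * Module.finrank k (Coh.HH X M 0) ≤ Module.finrank k (Coh.HH X E 0)

variable [IsIntegral X] [IsProper (X ↘ Spec (CommRingCat.of k))] 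

variable {k}

/-- In a space of sections of more than half of the dimension every nonzero section has an independent partner. -/
theorem exists_partner (C : Crv k X) {E : X.Modules} (hE : FlatMod.IsFinLocFreeOfRank 2 E) (hss : HSS k E)
    (W : Submodule k (Sec E)) (hW : Module.finrank k (Coh.HH X E 0) < 2 * Module.finrank k W)
    (s : Sec E) (hs : s ≠ 0) : ∃ t ∈ W, Mono (biprod.desc s t) := by
  obtain ⟨N, Q, j, q, w, a, hS, hN, hQ, haj⟩ :=
    exists_sat C Fdesc.LocGen.isInvertible_structureModule hE s hs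
  have hj : Mono j := hS.mono_f
  have h1 := hss N j hj hN
  have h2 : ¬ W ≤ LinearMap.range (post k j) := by
    intro hle
    have hf := finite_sec k (K707.Base.isCoh_of_rank hE)
    have h3 := Submodule.finrank_mono hle
    rw [finrank_range_post] at h3
    omega
  obtain ⟨t, htW, ht⟩ := Set.not_subset.1 h2
  exact ⟨t, htW, mono_desc C j q w hS hQ (isFinLocFree_of_rank hE) s t hs ⟨a, haj⟩ ht⟩

variable (k)
variable [Smooth (X ↘ Spec (CommRingCat.of k))] [IsAlgClosed k]
    (hdim : topologicalKrullDim X = 1) 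

include hdim

theorem exists_finite {E : X.Modules} (hE : FlatMod.IsFinLocFreeOfRank 2 E) 
    (W : Submodule k (Sec E)) (s t : Sec E) (hs : s ∈ W) (ht : t ∈ W) (hm : Mono (biprod.desc s t)) :
    ∃ Z : Set X, Z.Finite ∧ ∀ (p : X) (hp : IsClosed ({p} : Set X)), p ∉ Z →
      Module.finrank k (W ⊓ Kp k E p hp : Submodule k (Sec E)) + 2 ≤ Module.finrank k W := by
  obtain ⟨Z, hZ, h⟩ := eval2 k hdim hE s t hm
  have hf := finite_sec k (K707.Base.isCoh_of_rank hE)
  exact ⟨Z, hZ, fun p hp hpZ => finrank_inf_le k W _ s t hs ht (h p hp hpZ)⟩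

/-- Generic twisting lowers `h⁰` by two. -/
theorem exists_finite_eq {E : X.Modules} (hE : FlatMod.IsFinLocFreeOfRank 2 E) (hss : HSS k E)
    (h2 : 1 ≤ Module.finrank k (Coh.HH X E 0)) :
    ∃ Z : Set X, Z.Finite ∧ ∀ (p : X) (hp : IsClosed ({p} : Set X)), p ∉ Z →
      Module.finrank k (Kp k E p hp) + 2 = Module.finrank k (Coh.HH X E 0) := by
  have C : Crv k X := Crv.of_smooth hdim
  have hf := finite_sec k (K707.Base.isCoh_of_rank hE)
  have hfr := finrank_hom k E
  have : Nontrivial (Sec E) := Module.nontrivial_of_finrank_pos (R := k) (by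
    change 0 < Module.finrank k (Coh.structureModule X ⟶ E)
    omega)
  obtain ⟨s, hs⟩ := exists_ne (0 : Sec E)
  obtain ⟨t, -, hm⟩ := exists_partner C hE hss ⊤ (by rw [finrank_top, finrank_hom]; omega) s hs
  obtain ⟨Z, hZ, h⟩ := exists_finite k hdim hE ⊤ s t trivial trivial hm
  refine ⟨Z, hZ, fun p hp hpZ => ?_⟩
  have h3 := h p hp hpZ
  rw [top_inf_eq, finrank_top] at h3
  have h4 := finrank_le_Kp k hdim hE p hp
  have h5 : Module.finrank k (Sec E) = Module.finrank k (Coh.HH X E 0) := hfr
  omega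

end

end K704.Sat
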