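import Groth.Agent.VBCurve.K704.Pt

/-!
# Sections vanishing at a point
-/

set_option autoImplicit false
set_option linter.unusedSectionVars false
universe u
open CategoryTheory CategoryTheory.Limits AlgebraicGeometry TopologicalSpace Opposite

namespace K704.Eval

open Groth.Agent Groth.Agent.Dix.PointIdeal K704.Pt K704.HomK
open MonoidalCategory K707.Base K707.Deg K707.Slope K707.Semi
open scoped Groth.Agent.Dcoh.MonCat

theorem comp_g_eq_zero {C : Type*} [Category* C] [HasZeroMorphisms C] {S T : ShortComplex C} (F : S ⟶ T) [Mono F.τ₃]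
    {A : C} (s : A ⟶ S.X₂) (h : (s ≫ F.τ₂) ≫ T.g = 0) : s ≫ S.g = 0 := by
  rw [← cancel_mono F.τ₃, Category.assoc, ← F.comm₂₃, ← Category.assoc, h, zero_comp]

/-- Maps from the structure module. -/
abbrev Sec {X : Scheme.{u}} (E : X.Modules) := (Coh.structureModule X ⟶ E)

variable (k : Type u) [Field k] {X : Scheme.{u}} [X.Over (Spec (CommRingCat.of k))]

/-- Sections vanishing at `p`. -/
noncomputable def Kp (E : X.Modules) (p : X) (hp : IsClosed ({p} : Set X)) : Submodule k (Sec E) :=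
  LinearMap.range (post k (tw E (pt p hp)))

/-- The induced map on twists. -/
noncomputable def twm {A E : X.Modules} (φ : A ⟶ E) (p : X) (hp : IsClosed ({p} : Set X)) :
    CohB1.tensorMod A (ClSub.idealMod (pt p hp)) ⟶ CohB1.tensorMod E (ClSub.idealMod (pt p hp)) :=
  φ ▷ ClSub.idealMod (pt p hp)

theorem twm_tw {A E : X.Modules} (φ : A ⟶ E) (p : X) (hp : IsClosed ({p} : Set X)) :
    twm φ p hp ≫ tw E (pt p hp) = tw A (pt p hp) ≫ φ := tw_naturality φ _

theorem comp_mem_Kp {A E : X.Modules} (φ : A ⟶ E) (p : X) (hp : IsClosed ({p} : Set X)) {s : Sec A}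
    (hs : s ∈ Kp k A p hp) : s ≫ φ ∈ Kp k E p hp := by
  obtain ⟨t, rfl⟩ := hs
  refine ⟨t ≫ twm φ p hp, ?_⟩
  change (t ≫ twm φ p hp) ≫ tw E (pt p hp) = (t ≫ tw A (pt p hp)) ≫ φ
  rw [Category.assoc, Category.assoc, twm_tw]

theorem mem_Kp_iff {r : ℕ} {E : X.Modules} (hE : FlatMod.IsFinLocFreeOfRank r E) (p : X)
    (hp : IsClosed ({p} : Set X)) (s : Sec E) : s ∈ Kp k E p hp ↔ s ≫ (sq E (pt p hp)).g = 0 :=
  mem_range_post_iff k (sq_shortExact hE (pt p hp)) s

theorem mono_tw {r : ℕ} {E : X.Modules} (hE : FlatMod.IsFinLocFreeOfRank r E) (p : X)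
    (hp : IsClosed ({p} : Set X)) : Mono (tw E (pt p hp)) := (sq_shortExact hE (pt p hp)).mono_f

theorem finrank_Kp {r : ℕ} {E : X.Modules} (hE : FlatMod.IsFinLocFreeOfRank r E) (p : X)
    (hp : IsClosed ({p} : Set X)) :
    Module.finrank k (Kp k E p hp) =
      Module.finrank k (Coh.HH X (CohB1.tensorMod E (ClSub.idealMod (pt p hp))) 0) := by
  have := mono_tw hE p hp
  exact finrank_range_post k (tw E (pt p hp))

variable [IsIntegral X] [IsProper (X ↘ Spec (CommRingCat.of k))] 

theorem finite_sec {E : X.Modules} (hE : Coh.IsCoh E) : Module.Finite k (Sec E) := by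
  have := S0002.result k X E hE 0
  exact K706.HomFin.finite_unit_hom k E

variable [Smooth (X ↘ Spec (CommRingCat.of k))] [IsAlgClosed k]
    (hdim : topologicalKrullDim X = 1) 

include hdim

theorem finrank_le_Kp {r : ℕ} {E : X.Modules} (hE : FlatMod.IsFinLocFreeOfRank r E) (p : X)
    (hp : IsClosed ({p} : Set X)) :
    Module.finrank k (Sec E) ≤ Module.finrank k (Kp k E p hp) + r := by
  have h1 : Module.Finite k (Coh.HH X (sq E (pt p hp)).X₂ 0) := S0002.result k X E (K707.Base.isCoh_of_rank hE) 0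
  have h2 : Module.Finite k (Coh.HH X (sq E (pt p hp)).X₃ 0) := S0002.result k X _ (coh_tens_quot k X p hp hE) 0
  have h := HomK.finrank_le k (sq_shortExact hE (pt p hp))
  rw [finrank_Kp k hE, finrank_hom]
  have h3 := h0_tens_quot k X hdim p hp hE
  change Module.finrank k (Coh.HH X E 0) ≤ Module.finrank k (Coh.HH X (CohB1.tensorMod E (ClSub.idealMod (pt p hp))) 0) +
    Module.finrank k (Coh.HH X (E ⊗ ClSub.quotMod (pt p hp)) 0) at h
  omega

omit hdim in
theorem rank_unit {X : Scheme.{u}} : FlatMod.IsFinLocFreeOfRank 1 (Coh.structureModule X) :=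
  VarietyB.DegCartier.isFinLocFreeOfRank_one Fdesc.LocGen.isInvertible_structureModule

theorem Kp_unit (p : X) (hp : IsClosed ({p} : Set X)) {s : Sec (Coh.structureModule X)}
    (hs : s ∈ Kp k (Coh.structureModule X) p hp) : s = 0 := by
  by_contra hne
  have h1 := InvHom.isIso_endo X k hdim Fdesc.LocGen.isInvertible_structureModule s hne
  have hr : FlatMod.IsFinLocFreeOfRank 1 (Coh.structureModule X) := rank_unit
  rw [mem_Kp_iff k hr] at hs
  have h2 : (sq (Coh.structureModule X) (pt p hp)).g = 0 :=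
    (cancel_epi s).1 (hs.trans comp_zero.symm)
  have h3 := (sq_shortExact hr (pt p hp)).epi_g
  have h4 : IsZero (sq (Coh.structureModule X) (pt p hp)).X₃ := IsZero.of_epi_eq_zero _ h2
  have h5 := dg_tens_quot k X hdim p hp hr
  have h6 : dg k (Coh.structureModule X ⊗ ClSub.quotMod (pt p hp)) = 0 := dg_of_isZero (k := k) h4
  rw [h6] at h5
  simp at h5

theorem mem_Kp_of_comp {r : ℕ} {A E : X.Modules} (hA : FlatMod.IsFinLocFreeOfRank r A)
    (hE : FlatMod.IsFinLocFreeOfRank r E) (φ : A ⟶ E) (p : X) (hp : IsClosed ({p} : Set X))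
    (h : p ∉ CohB1.support (cokernel φ)) (s : Sec A) (hs : s ≫ φ ∈ Kp k E p hp) : s ∈ Kp k A p hp := by
  rw [mem_Kp_iff k hE] at hs
  rw [mem_Kp_iff k hA]
  have h1 : IsIso (sqMap φ (pt p hp)).τ₃ := isIso_quot k X hdim p hp hA hE φ h
  exact comp_g_eq_zero (sqMap φ (pt p hp)) s hs

/-- Generically independent sections are independent in the fibre at almost all points. -/
theorem eval2 {E : X.Modules} (hE : FlatMod.IsFinLocFreeOfRank 2 E) (s t : Sec E) (hm : Mono (biprod.desc s t)) :
    ∃ Z : Set X, Z.Finite ∧ ∀ (p : X) (hp : IsClosed ({p} : Set X)), p ∉ Z →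
      ∀ a b : k, a • s + b • t ∈ Kp k E p hp → a = 0 ∧ b = 0 := by
  have C : Crv k X := Crv.of_smooth hdim
  have hO : FlatMod.IsFinLocFreeOfRank 1 (Coh.structureModule X) := rank_unit
  have hOO : FlatMod.IsFinLocFreeOfRank 2 (Coh.structureModule X ⊞ Coh.structureModule X) :=
    Krr.H495.Rank.rank_biprod hO hO
  have hcO := K707.Base.isCoh_of_rank hOO
  have hcE := K707.Base.isCoh_of_rank hE
  have hQ := coh_cokernel (biprod.desc s t) hcO hcE
  have h1 := (mono_numbers C (biprod.desc s t) hcO hcE).1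
  rw [rk_of_rank hOO, rk_of_rank hE] at h1
  have h2 := subsingleton_of_rk_eq_zero hQ (by omega)
  have := isNoetherian k (X := X)
  refine ⟨CohB1.support (cokernel (biprod.desc s t)), VarietyA.GlobGen.finite_support _ hQ.2
    (VarietyA.DegRank.dim_support_le_zero hdim.le _ hQ (not_mem_support h2)), fun p hp hpZ a b hab => ?_⟩
  have h3 := mem_Kp_of_comp k hdim hOO hE (biprod.desc s t) p hp hpZ
    (biprod.lift (a • 𝟙 _) (b • 𝟙 _)) (by
      rw [biprod.lift_desc]
      simpa using hab)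
  have h4 := comp_mem_Kp k biprod.fst p hp h3
  have h5 := comp_mem_Kp k biprod.snd p hp h3
  rw [biprod.lift_fst] at h4
  rw [biprod.lift_snd] at h5
  have h6 := Kp_unit k hdim p hp h4
  have h7 := Kp_unit k hdim p hp h5
  have h8 : 𝟙 (Coh.structureModule X) ≠ 0 := fun h =>
    InvHom.not_isZero (Fdesc.LocGen.isInvertible_structureModule (X := X)) ((IsZero.iff_id_eq_zero _).2 h)
  exact ⟨(smul_eq_zero.1 h6).resolve_right h8, (smul_eq_zero.1 h7).resolve_right h8⟩

end K704.Eval
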