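import Groth.Agent.VBCurve.K704.MukDefs
import Groth.Agent.Picfga.P1Def
import Groth.Prelude.Def_ModFun2
import Groth.Prelude.Def_Curv2
import Groth.Prelude.Def_RelProj
import Mathlib.RingTheory.MvPolynomial.Homogeneous

/-!
# Rank two bundles with a symplectic structure and generating sections; families over affine schemes: definitions
-/

set_option autoImplicit false
set_option backward.isDefEq.respectTransparency false
universe u

open CategoryTheory CategoryTheory.Limits AlgebraicGeometry Opposite TopologicalSpace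
open Groth.Agent.Fdesc.LocGen Groth.Agent.Picfga.P1Def

namespace K704.Muk

section Model
variable {Y : Scheme.{u}}

/-- a basis of sections over `U` (and over every smaller open). -/
def IsBas {κ : Type*} [Fintype κ] {E : Y.Modules} {U : Y.Opens} (b : κ → Γ(E, U)) : Prop :=
  ∀ (V : Y.Opens) (h : V ≤ U), Function.Bijective (fun a : κ → Γ(Y, V) => ∑ i, a i • res E h (b i))

/-- an alternating bilinear pairing `E × E → L`. -/
structure Wdg (E L : Y.Modules) where
  b : ∀ U : Y.Opens, Γ(E, U) → Γ(E, U) → Γ(L, U)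
  add : ∀ U x y z, b U (x + y) z = b U x z + b U y z
  add_right : ∀ U x y z, b U x (y + z) = b U x y + b U x z
  smul : ∀ U (a : Γ(Y, U)) x y, b U (a • x) y = a • b U x y
  self : ∀ U x, b U x x = 0
  res : ∀ {U V : Y.Opens} (h : V ≤ U) (x y : Γ(E, U)), res L h (b U x y) = b V (res E h x) (res E h y)

/-- the sections `s i j` of `L` are alternating and satisfy the Plücker relations. -/
def PluS {C : Type*} {L : Y.Modules} (s : C → C → Γ(L, ⊤)) : Prop :=
  (∀ i, s i i = 0) ∧ (∀ i j, s i j = - s j i) ∧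
  ∀ (U : Y.Opens) (e : Γ(L, U)) (σ : C → C → Γ(Y, U)), IsGen e →
    (∀ i j, res L le_top (s i j) = σ i j • e) → IsPlu (Matrix.of σ)

/-- at every point one of the sections `s i j` generates `L`. -/
def GenS {C : Type*} {L : Y.Modules} (s : C → C → Γ(L, ⊤)) : Prop :=
  ∀ y : Y, ∃ (U : Y.Opens) (i j : C), y ∈ U ∧ IsGen (res L (le_top : U ≤ ⊤) (s i j))

/-- `E` (locally free of rank two) with global sections `v i` generating it and a nondegenerate alternating form
`β : E × E → L` with `β (v i, v j) = s i j`. -/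
structure IsModel {C : Type*} {E L : Y.Modules} (v : C → Γ(E, ⊤)) (s : C → C → Γ(L, ⊤)) (β : Wdg E L) : Prop where
  val : ∀ i j, β.b ⊤ (v i) (v j) = s i j
  gen : ∀ y : Y, ∃ (U : Y.Opens) (i j : C), y ∈ U ∧
    IsBas ![res E (le_top : U ≤ ⊤) (v i), res E (le_top : U ≤ ⊤) (v j)] ∧
    IsGen (res L (le_top : U ≤ ⊤) (s i j))

end Model

section Fam
variable {k : Type u} [Field k] {X : Scheme.{u}} (f : X ⟶ Spec (CommRingCat.of k))

/-- The structure map `k → Γ(T, O_T)`. -/
noncomputable def strΓ (T : Over (Spec (CommRingCat.of k))) : k →+* Γ(T.left, ⊤) :=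
  ((Scheme.ΓSpecIso (CommRingCat.of k)).inv ≫ T.hom.appTop).hom

/-- functions on `T` as a `k`-algebra. -/
noncomputable instance algΓ (T : Over (Spec (CommRingCat.of k))) : Algebra k Γ(T.left, ⊤) := (strΓ T).toAlgebra

/-- `s` is a basis of `H^0(X_T, M)` over `Γ(T, O_T)`. -/
def H0basis {κ : Type*} [Fintype κ] (T : Over (Spec (CommRingCat.of k))) {M : (PicF.XT f T).Modules}
    (s : κ → Γ(M, ⊤)) : Prop :=
  ∀ m : Γ(M, ⊤), ∃! c : κ → Γ(T.left, ⊤), m = ∑ i, fn f T (c i) • s i

/-- `s` is a basis of `H^0(X_T', M_T')` for all affine `T' → T`. -/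
def UBasis {κ : Type*} [Fintype κ] (T : Over (Spec (CommRingCat.of k))) {M : (PicF.XT f T).Modules}
    (s : κ → Γ(M, ⊤)) : Prop :=
  ∀ (T' : Over (Spec (CommRingCat.of k))) (g : T' ⟶ T), IsAffine T'.left →
    H0basis f T' (fun i => pbTop f g M (s i))

/-- A basis `ω` of `H⁰(X, L)`, a nonempty affine open `U` of `X`, a generator `e` of `L` over `U` and the functions
`a l = ω l / e`. -/
structure BD (L : X.Modules) where
  d : ℕ
  ω : Fin d → Γ(L, ⊤)
  basis : ∀ s : Γ(L, ⊤), ∃! c : Fin d → k, s = ∑ l, strMap f ⊤ (c l) • ω l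
  U : X.Opens
  aff : IsAffineOpen U
  ne : (U : Set X).Nonempty
  e : Γ(L, U)
  gen : IsGen e
  a : Fin d → Γ(X, U)
  ha : ∀ l, res L le_top (ω l) = a l • e

variable {f}

/-- the `k`-points of `U` -/
def BD.I {L : X.Modules} (B : BD f L) : Type u := {ρ : Γ(X, B.U) →+* k // ρ.comp (strMap f B.U) = RingHom.id k}

/-- the values of the basis at the `k`-points of `U` -/
def BD.w {L : X.Modules} (B : BD f L) : Fin B.d → B.I → k := fun l ρ => ρ.1 (B.a l)

variable (f)

/-- the constant family `L_T` -/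
noncomputable abbrev LT (L : X.Modules) (T : Over (Spec (CommRingCat.of k))) : (PicF.XT f T).Modules :=
  (Scheme.Modules.pullback (pullback.fst f T.hom)).obj L

variable {f}

/-- the basis `ω` as sections of `L_T` -/
noncomputable def BD.ωT {L : X.Modules} (B : BD f L) (T : Over (Spec (CommRingCat.of k))) (l : Fin B.d) :
    Γ(LT f L T, ⊤) := pullTop (pullback.fst f T.hom) (B.ω l)

/-- the sections `∑ t_l(a,b) ω_l` of `L_T` attached to a family of matrices -/
noncomputable def BD.sec {L : X.Modules} (B : BD f L) (T : Over (Spec (CommRingCat.of k))) {C : Type*}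
    (t : Fin B.d → C → C → Γ(T.left, ⊤)) (a b : C) : Γ(LT f L T, ⊤) :=
  ∑ l, fn f T (t l a b) • B.ωT T l

end Fam

/-- scalars as global functions -/
noncomputable def gl (Ω : Type u) [Field Ω] (Y : Scheme.{u}) [Y.Over (Spec (CommRingCat.of Ω))] : Ω →+* Γ(Y, ⊤) :=
  ((Scheme.ΓSpecIso (CommRingCat.of Ω)).inv ≫ (Y ↘ Spec (CommRingCat.of Ω)).appTop).hom

/-- the tuples `t` killed by all polynomials of `E`. -/
def Sol {k : Type*} [Field k] {ι : Type*} (E : Set (MvPolynomial ι k)) {A : Type*} [CommRing A] [Algebra k A]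
    (t : ι → A) : Prop := ∀ p ∈ E, MvPolynomial.aeval t p = 0

/-- `t` are homogeneous coordinates of the point `a : T ⟶ M` with respect to the sections `x i` of the invertible
module `N`. -/
def Coord {k : Type u} [Field k] {M : Over (Spec (CommRingCat.of k))} {N : M.left.Modules} {ι : Type*}
    (x : ι → Γ(N, ⊤)) {T : Over (Spec (CommRingCat.of k))} (a : T ⟶ M) (t : ι → Γ(T.left, ⊤)) : Prop :=
  ∃ e : Γ((Scheme.Modules.pullback a.left).obj N, ⊤), IsGen e ∧ ∀ i, pullTop a.left (x i) = t i • e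

end K704.Muk
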