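import Mathlib.LinearAlgebra.Matrix.Determinant.Basic
import Mathlib.LinearAlgebra.Matrix.NonsingularInverse
import Mathlib.LinearAlgebra.Matrix.ToLin
import Mathlib.RingTheory.DiscreteValuationRing.Basic
import Mathlib.RingTheory.LocalRing.ResidueField.Basic
import Mathlib.LinearAlgebra.Dimension.Finrank

/-!
# Matrix description of rank two bundles of odd degree (Mukai): definitions

`k` a field (algebraically closed of characteristic zero in the applications), `I` an infinite set (the closed
points of an open subset of the curve), `w : Fin d → I → k` (the values of a basis of `H⁰(L)`).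
A system of size `2 m + 1` over a `k`-algebra `A` is `T : Fin d → Matrix (J m) (J m) A`; in the applications
`T l a b` is the `l`-th coordinate of `v_a ∧ v_b ∈ H⁰(Λ² E) = H⁰(L)`, `v_a` a basis of `H⁰(E)`.
-/

set_option autoImplicit false
universe u

namespace K704.Muk

open Matrix

/-- an index set with `2 m + 1` elements. -/
abbrev J (m : ℕ) : Type := Option (Fin m × Bool)

/-- systems of `d` matrices of size `2 m + 1`. -/
abbrev Sys (d m : ℕ) (A : Type*) := Fin d → Matrix (J m) (J m) A

section cv
variable {A : Type*} [CommRing A] {m : ℕ}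

/-- The canonical vector of `m` matrices `P₁, …, P_m`:
`cv P c = ∑_{σ ∈ Perm J, σ none = c} sign σ ∏ᵢ Pᵢ (σ (i, false)) (σ (i, true))`. -/
def cv (P : Fin m → Matrix (J m) (J m) A) (c : J m) : A :=
  ∑ σ : Equiv.Perm (J m), if σ none = c then
    (((Equiv.Perm.sign σ : ℤˣ) : ℤ) : A) * ∏ i, P i (σ (some (i, false))) (σ (some (i, true))) else 0

/-- alternating matrices. -/
structure IsAlt {n : Type*} (P : Matrix n n A) : Prop where
  diag : ∀ a, P a a = 0
  skew : ∀ a b, P a b = - P b a

/-- alternating matrices satisfying the three-term Plücker relations (over a field: rank at most two). -/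
structure IsPlu {n : Type*} (P : Matrix n n A) : Prop extends IsAlt P where
  plu : ∀ a b c e, P a b * P c e - P a c * P b e + P a e * P b c = 0

end cv

variable {k : Type*} [Field k] {I : Type*} {d m : ℕ} (w : Fin d → I → k)

/-- No nontrivial linear combination of the `w l` has infinitely many zeros. -/
def Gen : Prop := ∀ c : Fin d → k, c ≠ 0 → {x | ∑ l, c l * w l x = 0}.Finite

section ring
variable {A : Type*} [CommRing A] [Algebra k A]

/-- The value at `x` of a system. -/
def ev (T : Sys d m A) (x : I) : Matrix (J m) (J m) A := ∑ l, algebraMap k A (w l x) • T l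

/-- Alternating systems all of whose values satisfy the Plücker relations. -/
structure IsSys (T : Sys d m A) : Prop where
  alt : ∀ l, IsAlt (T l)
  plu : ∀ x, IsPlu (ev w T x)

/-- The canonical vectors of a system. -/
def cvS (T : Sys d m A) (S : Fin m → I) : J m → A := cv fun i => ev w T (S i)

/-- The matrix whose columns are the canonical vectors `cvS w T (F j)`, `j ∈ J`. -/
def mF (T : Sys d m A) (F : J m → Fin m → I) : Matrix (J m) (J m) A := Matrix.of fun a j => cvS w T (F j) a

/-- Its determinant. -/
def dF (T : Sys d m A) (F : J m → Fin m → I) : A := (mF w T F).det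

/-- The action of `φ ∈ GL_J` and `c` on systems. -/
def act (c : A) (φ : Matrix (J m) (J m) A) (T : Sys d m A) : Sys d m A := fun l => c • (φᵀ * T l * φ)

/-- The invariants of a system: `θ (S, S', l) = cv_Sᵀ T_l cv_S'`. -/
def tau (T : Sys d m A) (S S' : Fin m → I) (l : Fin d) : A := cvS w T S ⬝ᵥ (T l *ᵥ cvS w T S')

end ring

/-- Semistable systems over a field. -/
structure SSt {K : Type*} [Field K] (T : Sys d m K) : Prop where
  rad : ∀ v : J m → K, (∀ l, T l *ᵥ v = 0) → v = 0
  iso : ∀ U : Submodule K (J m → K), (∀ u ∈ U, ∀ u' ∈ U, ∀ l, u ⬝ᵥ (T l *ᵥ u') = 0) → Module.finrank K U ≤ m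

/-! ### Coordinates: `t : C × C × Fin d → A`, `C` a finite set of `m`-tuples of points -/

section coord
variable {A : Type*} [CommRing A] [Algebra k A] {C : Finset (Fin m → I)}

/-- restriction of `t` to the `F j`, `j ∈ J`: a system of size `2 m + 1`. -/
def rs (t : C × C × Fin d → A) (F : J m → C) : Sys d m A := fun l => Matrix.of fun a b => t (F a, F b, l)

/-- the function `h_F(t) = det (cv_{F j} (t|F))_j`. -/
def hF (t : C × C × Fin d → A) (F : J m → C) : A := dF w (rs t F) (fun j => (F j : Fin m → I))

/-- The (homogeneous) equations of the moduli space in the open set `h_F ≠ 0`. -/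
structure EqF (t : C × C × Fin d → A) (F : J m → C) : Prop where
  sys : IsSys w (rs t F)
  scal : ∃ β : A, ∀ (a j : J m), cvS w (rs t F) (F j) a = if a = j then β else 0
  fac : ∀ (S S' : C) (l : Fin d),
    (cvS w (rs t F) (F none) none) ^ 2 * t (S, S', l) = tau w (rs t F) S S' l

/-- all the invariants of a system. -/
def taut (C : Finset (Fin m → I)) (T : Sys d m A) : C × C × Fin d → A := fun p => tau w T p.1 p.2.1 p.2.2

end coord

end K704.Muk
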