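import Groth.Agent.VBCurve.K704.HomK
import Groth.Agent.Dix.PointIdeal
import Groth.Agent.Models.H55.PtDeg
import Groth.Agent.VarietyA.RegPoint
import Groth.Agent.CurvesB.TwistIdeal
import Groth.Agent.Dcoh.StalkT
import Groth.Agent.Krr.H495.Rank
import Groth.Agent.S1604

/-!
# Closed points on a smooth curve and twisting down at a point
-/

set_option autoImplicit false
universe u
open CategoryTheory CategoryTheory.Limits AlgebraicGeometry TopologicalSpace Opposite IsLocalRing

namespace K704.Pt

open Groth.Agent Groth.Agent.Dix.PointIdeal Groth.Agent.Divis.CartierBasic Groth.Agent.Dix.IdealModCartier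
open Groth.Agent.Models.H55.PtDeg Groth.Agent.Dix.InterNum

section

variable {X : Scheme.{u}} (p : X) (hp : IsClosed ({p} : Set X))

include hp in
theorem isClosedImmersion : IsClosedImmersion (X.fromSpecResidueField p) :=
  isClosed_singleton_iff_isClosedImmersion.mp hp

theorem mem_support_ker_iff [IsClosedImmersion (X.fromSpecResidueField p)] (x : X) :
    x ∈ (X.fromSpecResidueField p).ker.support ↔ x = p := by
  constructor
  · intro hx
    obtain ⟨z, rfl⟩ : x ∈ Set.range (X.fromSpecResidueField p) := (Dix.VertGeom.mem_support_ker_iff _ x).1 hx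
    exact X.fromSpecResidueField_apply p _
  · rintro rfl
    refine (Dix.VertGeom.mem_support_ker_iff _ _).2 ⟨closedPoint _, X.fromSpecResidueField_apply _ _⟩

theorem pt_eq_ker [IsClosedImmersion (X.fromSpecResidueField p)] :
    pt p hp = (X.fromSpecResidueField p).ker := by
  apply ext_stalkIdeal
  intro x
  by_cases hx : x = p
  · subst hx
    rw [stalkIdeal_pt, stalkIdeal_ker_fromSpecResidueField]
  · rw [(notMem_support_iff_stalkIdeal_eq_top _ x).1 (fun h => hx ((mem_support_pt p hp x).1 h)),
      (notMem_support_iff_stalkIdeal_eq_top _ x).1 (fun h => hx ((mem_support_ker_iff p x).1 h))]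

end

section

variable (k : Type u) [Field k] (X : Scheme.{u}) [X.Over (Spec (CommRingCat.of k))]
    [IsIntegral X] [IsProper (X ↘ Spec (CommRingCat.of k))] [Smooth (X ↘ Spec (CommRingCat.of k))]
    (hdim : topologicalKrullDim X = 1) (p : X) (hp : IsClosed ({p} : Set X))

omit [IsProper (X ↘ Spec (CommRingCat.of k))] in
include k hdim hp in
theorem exists_uniformizer : ∃ ϖ : X.presheaf.stalk p, maximalIdeal (X.presheaf.stalk p) = Ideal.span {ϖ} ∧ ϖ ≠ 0 := by
  have C : K707.Base.Crv k X := K707.Base.Crv.of_smooth hdim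
  have h := C.pid p
  obtain ⟨ϖ, hϖ⟩ := (IsPrincipalIdealRing.principal (maximalIdeal (X.presheaf.stalk p))).principal
  refine ⟨ϖ, hϖ, ?_⟩
  rintro rfl
  apply VarietyA.RegPoint.ne_genericPoint_of_isClosed hdim hp
  apply VarietyA.RegPoint.eq_genericPoint
  rw [hϖ]
  simp

include k hdim in
theorem isEff : BlowUp.IsEffCartierIdeal (pt p hp) := by
  have := isClosedImmersion p hp
  have hn : IsLocallyNoetherian X := LocallyOfFiniteType.isLocallyNoetherian (X ↘ Spec (CommRingCat.of k))
  obtain ⟨ϖ, h1, h2⟩ := exists_uniformizer k X hdim p hp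
  rw [pt_eq_ker]
  exact isEff_ker_fromSpecResidueField p ϖ h1 h2

include k hdim in
theorem isInvertible : PicF.IsInvertible (ClSub.idealMod (pt p hp)) := isInvertible_idealMod (isEff k X hdim p hp)

variable [IsAlgClosed k]

omit [IsIntegral X] [Smooth (X ↘ Spec (CommRingCat.of k))] in
theorem finrank_quot : Module.finrank k (Coh.HH X (ClSub.quotMod (pt p hp)) 0) = 1 := by
  have := isClosedImmersion p hp
  rw [pt_eq_ker, finrank_quotMod]
  have h1 : h0 ((X.fromSpecResidueField p).ker.subschemeι ≫ (X ↘ Spec (CommRingCat.of k))) =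
      h0 (X.fromSpecResidueField p ≫ (X ↘ Spec (CommRingCat.of k))) := by
    refine h0_congr _ _ (asIso (X.fromSpecResidueField p).toImage).symm ?_
    rw [Iso.symm_hom, asIso_inv, IsIso.inv_comp_eq, ← Category.assoc]
    congr 1
    exact ((X.fromSpecResidueField p).toImage_imageι).symm
  rw [h1]
  refine h0_eq_one _ (surjective_glo _ p fun c => ?_)
  exact VarietyA.RegPoint.exists_sub_mem_maximalIdeal k X hp c

end

section general

open MonoidalCategory

variable {C : Type*} [Category* C] [Preadditive C] [MonoidalCategory C] [MonoidalPreadditive C]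
variable {I Q : C} (f : I ⟶ 𝟙_ C) (g : 𝟙_ C ⟶ Q) (w : f ≫ g = 0)

/-- `E ⊗ I ⟶ E ⟶ E ⊗ Q`. -/
@[simps] def gsq (E : C) : ShortComplex C :=
  ShortComplex.mk (E ◁ f ≫ (ρ_ E).hom) ((ρ_ E).inv ≫ E ◁ g) (by
    simp only [Category.assoc, Iso.hom_inv_id_assoc]
    rw [← MonoidalCategory.whiskerLeft_comp, w, MonoidalPreadditive.whiskerLeft_zero])

/-- Naturality. -/
@[simps] def gsqMap {E F : C} (φ : E ⟶ F) : gsq f g w E ⟶ gsq f g w F where
  τ₁ := φ ▷ I
  τ₂ := φ
  τ₃ := φ ▷ Q
  comm₁₂ := by
    change φ ▷ I ≫ F ◁ f ≫ (ρ_ F).hom = (E ◁ f ≫ (ρ_ E).hom) ≫ φ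
    rw [Category.assoc, ← rightUnitor_naturality, whisker_exchange_assoc]
  comm₂₃ := by
    change φ ≫ (ρ_ F).inv ≫ F ◁ g = ((ρ_ E).inv ≫ E ◁ g) ≫ φ ▷ Q
    rw [rightUnitor_inv_naturality_assoc, ← whisker_exchange, Category.assoc]

/-- The comparison with the tensored sequence. -/
def gsqIso (E : C) : (ShortComplex.mk (E ◁ f) (E ◁ g) (by
    rw [← MonoidalCategory.whiskerLeft_comp, w, MonoidalPreadditive.whiskerLeft_zero])) ≅ gsq f g w E :=
  ShortComplex.isoMk (Iso.refl _) (ρ_ E) (Iso.refl _) (Category.id_comp _)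
    (((ρ_ E).hom_inv_id_assoc _).trans (Category.comp_id _).symm)

theorem sub_tens {R M N : Type u} [CommRing R] [AddCommGroup M] [AddCommGroup N] [Module R M] [Module R N]
    (h : Subsingleton M ∨ Subsingleton N) : Subsingleton (TensorProduct R M N) := by
  rcases h with h | h
  · infer_instance
  · infer_instance

end general

section tensor

open MonoidalCategory
open scoped Groth.Agent.Dcoh.MonCat

variable {X : Scheme.{u}}

theorem isZero_tensor {M N : X.Modules}
    (h : ∀ x : X, Subsingleton (M.presheaf.stalk x) ∨ Subsingleton (N.presheaf.stalk x)) :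
    IsZero (M ⊗ N) := by
  change IsZero (CohB1.tensorMod M N)
  rw [VarietyB.ExactLoc.isZero_iff_stalk]
  intro x
  have e : (CohB1.tensorMod M N).presheaf.stalk x ≃ₗ[X.presheaf.stalk x]
      TensorProduct (X.presheaf.stalk x) (M.presheaf.stalk x) (N.presheaf.stalk x) :=
    (Dcoh.Stalk.tensorStalkIso M N x).toLinearEquiv
  have := sub_tens (R := X.presheaf.stalk x) (h x)
  exact e.toEquiv.subsingleton

/-- The ideal as a submodule of the unit. -/
noncomputable def ii (D : X.IdealSheafData) : ClSub.idealMod D ⟶ 𝟙_ X.Modules := ClSub.idealModι D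

/-- The quotient map. -/
noncomputable def qq (D : X.IdealSheafData) : 𝟙_ X.Modules ⟶ ClSub.quotMod D := ClSub.toSubscheme D

theorem ii_qq (D : X.IdealSheafData) : ii D ≫ qq D = 0 := (VarietyB.DegCartier.idealSeq D).zero

/-- The sequence `0 → E ⊗ 𝓘 → E → E ⊗ O/𝓘 → 0`. -/
noncomputable abbrev sq (E : X.Modules) (D : X.IdealSheafData) : ShortComplex X.Modules :=
  gsq (ii D) (qq D) (ii_qq D) E

/-- The map `E ⊗ 𝓘 → E`. -/
noncomputable abbrev tw (E : X.Modules) (D : X.IdealSheafData) :
    CohB1.tensorMod E (ClSub.idealMod D) ⟶ E := (sq E D).f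

theorem sq_shortExact {r : ℕ} {E : X.Modules} (hE : FlatMod.IsFinLocFreeOfRank r E) (D : X.IdealSheafData) :
    (sq E D).ShortExact := by
  have h1 := VarietyB.ExactLoc.tensor_shortExact (VarietyB.TensCoh.HasBases.of_isFinLocFreeOfRank hE) _
    (VarietyB.DegCartier.idealSeq_shortExact D)
  exact ShortComplex.shortExact_of_iso (gsqIso (ii D) (qq D) (ii_qq D) E) h1

/-- Naturality of the twisting sequence. -/
noncomputable abbrev sqMap {E F : X.Modules} (φ : E ⟶ F) (D : X.IdealSheafData) : sq E D ⟶ sq F D :=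
  gsqMap (ii D) (qq D) (ii_qq D) φ

theorem tw_naturality {E F : X.Modules} (φ : E ⟶ F) (D : X.IdealSheafData) :
    φ ▷ ClSub.idealMod D ≫ tw F D = tw E D ≫ φ := (sqMap φ D).comm₁₂

theorem not_mem_support_iff {M : X.Modules} {x : X} : x ∉ CohB1.support M ↔ Subsingleton (M.presheaf.stalk x) :=
  not_not

theorem subsingleton_stalk_quot (p : X) (hp : IsClosed ({p} : Set X)) {x : X} (hx : x ≠ p) :
    Subsingleton ((ClSub.quotMod (pt p hp)).presheaf.stalk x) := by
  rw [← not_mem_support_iff]
  intro h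
  exact hx ((mem_support_pt p hp x).1 (VarietyB.DegCartier.support_quotMod_subset _ h))

theorem isZero_tensor_quot {T : X.Modules} (p : X) (hp : IsClosed ({p} : Set X)) (h : p ∉ CohB1.support T) :
    IsZero (T ⊗ ClSub.quotMod (pt p hp)) := by
  refine isZero_tensor fun x => ?_
  by_cases hx : x = p
  · subst hx
    exact Or.inl (not_mem_support_iff.1 h)
  · exact Or.inr (subsingleton_stalk_quot p hp hx)

theorem epi_whiskerRight {A E : X.Modules} (φ : A ⟶ E) (p : X) (hp : IsClosed ({p} : Set X))
    (h : p ∉ CohB1.support (cokernel φ)) : Epi (φ ▷ ClSub.quotMod (pt p hp)) := by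
  have := Dcoh.Stalk.preservesFiniteColimits_tensorBi_flip_obj (X := X) (ClSub.quotMod (pt p hp))
  let F : X.Modules ⥤ X.Modules := DCoh.tensorBi.flip.obj (ClSub.quotMod (pt p hp))
  have : F.Additive := inferInstance
  have h1 : IsZero (cokernel (F.map φ)) :=
    (isZero_tensor_quot p hp h).of_iso (PreservesCokernel.iso F φ).symm
  exact Preadditive.epi_of_isZero_cokernel (F.map φ) h1

end tensor

section curve

open MonoidalCategory K707.Base K707.Deg K707.Slope K707.Semi
open scoped Groth.Agent.Dcoh.MonCat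

variable (k : Type u) [Field k] (X : Scheme.{u}) [X.Over (Spec (CommRingCat.of k))]
    [IsIntegral X] [IsProper (X ↘ Spec (CommRingCat.of k))] [Smooth (X ↘ Spec (CommRingCat.of k))]
    (hdim : topologicalKrullDim X = 1) (p : X) (hp : IsClosed ({p} : Set X))

omit [IsIntegral X] in
include k in
theorem coh_tens_quot {r : ℕ} {E : X.Modules} (hE : FlatMod.IsFinLocFreeOfRank r E) :
    Coh.IsCoh (E ⊗ ClSub.quotMod (pt p hp)) :=
  VarietyB.TensCoh.isCoh_tensorMod (VarietyB.TensCoh.HasBases.of_isFinLocFreeOfRank hE)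
    (VarietyB.DegCartier.isCoh_quotMod _)

include k hdim in
set_option linter.unusedSectionVars false in
theorem torsion_tens_quot {E : X.Modules} :
    Subsingleton ((E ⊗ ClSub.quotMod (pt p hp)).presheaf.stalk (genericPoint X)) := by
  have hne : genericPoint X ≠ p := fun h => VarietyA.RegPoint.ne_genericPoint_of_isClosed hdim hp h.symm
  have e : (CohB1.tensorMod E (ClSub.quotMod (pt p hp))).presheaf.stalk (genericPoint X) ≃ₗ[X.presheaf.stalk (genericPoint X)]
      TensorProduct (X.presheaf.stalk (genericPoint X)) (E.presheaf.stalk (genericPoint X))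
        ((ClSub.quotMod (pt p hp)).presheaf.stalk (genericPoint X)) :=
    (Dcoh.Stalk.tensorStalkIso E (ClSub.quotMod (pt p hp)) (genericPoint X)).toLinearEquiv
  have := sub_tens (R := X.presheaf.stalk (genericPoint X)) (M := E.presheaf.stalk (genericPoint X))
    (Or.inr (subsingleton_stalk_quot p hp hne))
  exact e.toEquiv.subsingleton

variable [IsAlgClosed k]

include k hdim in
omit [IsAlgClosed k] in
theorem dim_support_pt : topologicalKrullDim ((pt p hp).support : Set X) ≤ 0 := by
  have := isNoetherian k (X := X)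
  exact VarietyB.DegFin.dim_support_le_zero X hdim.le _ (isEff k X hdim p hp)

include hdim in
theorem dg_tens_quot {r : ℕ} {E : X.Modules} (hE : FlatMod.IsFinLocFreeOfRank r E) :
    dg k (E ⊗ ClSub.quotMod (pt p hp)) = r := by
  rw [dg_eq_euler_of_torsion k (torsion_tens_quot k X hdim p hp)]
  have h1 := S1558.result k X (ClSub.quotMod (pt p hp)) (VarietyB.DegCartier.isCoh_quotMod _)
    (CurvesB.TwistIdeal.dim_support_quotMod _ (dim_support_pt k X hdim p hp)) r E hE
  have h2 : Curv2.euler k X (E ⊗ ClSub.quotMod (pt p hp)) =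
      Curv2.euler k X (CohB1.tensorMod (ClSub.quotMod (pt p hp)) E) :=
    VarietyB.DegPhi.euler_congr k (Ega2.Tens.swap E _)
  rw [h2, h1, VarietyA.EulerFinite.euler_eq_of_vanish k X _
    fun i hi => CurvesB.TwistIdeal.subsingleton_quotMod k _ (dim_support_pt k X hdim p hp) i hi, finrank_quot]
  simp

include hdim in
theorem h0_tens_quot {r : ℕ} {E : X.Modules} (hE : FlatMod.IsFinLocFreeOfRank r E) :
    Module.finrank k (Coh.HH X (E ⊗ ClSub.quotMod (pt p hp)) 0) = r := by
  have h1 := dg_tens_quot k X hdim p hp hE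
  rw [dg_eq_euler_of_torsion k (torsion_tens_quot k X hdim p hp),
    euler_of_torsion k hdim (coh_tens_quot k X p hp hE) (torsion_tens_quot k X hdim p hp)] at h1
  exact_mod_cast h1

include k hdim in
/-- Away from the support of its cokernel, a monomorphism between bundles of the same rank is an isomorphism on
fibres. -/
theorem isIso_quot {r : ℕ} {A E : X.Modules} (hA : FlatMod.IsFinLocFreeOfRank r A)
    (hE : FlatMod.IsFinLocFreeOfRank r E) (φ : A ⟶ E) (h : p ∉ CohB1.support (cokernel φ)) :
    IsIso (φ ▷ ClSub.quotMod (pt p hp)) := by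
  have C : Crv k X := Crv.of_smooth hdim
  have hepi := epi_whiskerRight φ p hp h
  have h1 := (epi_numbers C (φ ▷ ClSub.quotMod (pt p hp)) (coh_tens_quot k X p hp hA) (coh_tens_quot k X p hp hE))
  have h2 := coh_kernel C (φ ▷ ClSub.quotMod (pt p hp)) (coh_tens_quot k X p hp hA) (coh_tens_quot k X p hp hE)
  have h3 := rk_eq_zero_of_subsingleton (torsion_tens_quot k X hdim p hp (E := A))
  have h4 := dg_tens_quot k X hdim p hp hA
  have h5 := dg_tens_quot k X hdim p hp hE
  have h6 : IsZero (kernel (φ ▷ ClSub.quotMod (pt p hp))) :=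
    isZero_of_dg_le_zero k hdim h2 (subsingleton_of_rk_eq_zero h2 (by omega)) (by omega)
  have : Mono (φ ▷ ClSub.quotMod (pt p hp)) := Preadditive.mono_of_isZero_kernel _ h6
  exact isIso_of_mono_of_epi _

end curve

end K704.Pt
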